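import Cfsg.Agent.H89.S8.Solv
import Cfsg.Agent.H815.S8.J1Deg

/-!
# S4908, `J₁`: SOLV (helper89; degrees by helper815)
-/

set_option autoImplicit false

namespace Cfsg.Agent.H89.S8

open Cfsg Cfsg.Agent.H704.S8

universe u v

theorem j1_chk : chk 40 [56, 76, 77, 120, 133, 209] [2, 3, 5, 7, 11, 19] [56, 120, 209] = true := by decide +kernel

/-- **SOLV for `J₁`** -/
theorem solv_J1 {X : Type v} [Group X] [Finite X] (hX : IsJ1 X) : ∀ D : Set ℕ, Deg 1 X D → Solv.{u} D := by
  intro D hD
  have hD' : D = {1, 56, 76, 77, 120, 133, 209} := by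
    rcases hD with h | ⟨h, -⟩
    · rw [h, H815.S8.J1Deg.charDegrees_eq hX]
    · omega
  subst hD'
  have hex : ∃ d ∈ ({1, 56, 76, 77, 120, 133, 209} : Set ℕ), d ≠ 1 := ⟨56, by simp, by norm_num⟩
  refine @solv_of.{u} _ 40 _ _ _ j1_chk ?_ ?_ ?_ hex
  · intro d hd
    simpa using hd
  · intro w hw
    fin_cases hw <;> simp
  · rintro p hp ⟨x, hx, hpx⟩
    have h1 : p ∣ 175560 := by
      refine hpx.trans ?_
      simp only [Set.mem_insert_iff, Set.mem_singleton_iff] at hx
      rcases hx with rfl | rfl | rfl | rfl | rfl | rfl | rfl <;> norm_num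
    have h2 : p ∈ (175560 : ℕ).primeFactors := Nat.mem_primeFactors.2 ⟨hp, h1, by norm_num⟩
    have h3 : (175560 : ℕ).primeFactors = {2, 3, 5, 7, 11, 19} := by
      rw [show (175560 : ℕ) = 2 ^ 3 * (3 * (5 * (7 * (11 * 19)))) by norm_num]
      rw [Nat.primeFactors_mul (by norm_num) (by norm_num), Nat.primeFactors_prime_pow (by norm_num) Nat.prime_two,
        Nat.primeFactors_mul (by norm_num) (by norm_num), Nat.primeFactors_mul (by norm_num) (by norm_num),
        Nat.primeFactors_mul (by norm_num) (by norm_num), Nat.primeFactors_mul (by norm_num) (by norm_num),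
        Nat.Prime.primeFactors (by norm_num : Nat.Prime 3), Nat.Prime.primeFactors (by norm_num : Nat.Prime 5),
        Nat.Prime.primeFactors (by norm_num : Nat.Prime 7), Nat.Prime.primeFactors (by norm_num : Nat.Prime 11),
        Nat.Prime.primeFactors (by norm_num : Nat.Prime 19)]
      rfl
    rw [h3] at h2
    simpa using h2

end Cfsg.Agent.H89.S8
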