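import Cfsg.Agent.H121.OZ.JTwoCls
import Cfsg.Agent.H447.CTabLam
import Cfsg.Agent.H175.Eight.JTwo

/-!
# The irreducible character of degree 288 of `J₂` (helper89, S4908)

`χ₂₈₈ = Sym² χ₃₆ - π₃₁₅ - χ₆₃`, with `χ₃₆`, `χ₆₃` the nontrivial constituents of the permutation character on the
100 points (a strongly regular graph with the parameters `(100, 36, 14, 12)`) and `π₃₁₅` the permutation character on
the class of the central involutions.
-/

set_option autoImplicit false
set_option maxRecDepth 100000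

namespace Cfsg.Agent.H89.S8.J2

open Cfsg Equiv Cfsg.Agent.SporadicA.PermTab Cfsg.Agent.SporadicA.J2Hundred
open Cfsg.Agent.J2.HundredGens Cfsg.Agent.H1.J2Cls Cfsg.Agent.H1.J2Cover Cfsg.Agent.H121.OZ.JTwoCls
open Cfsg.Agent.H447.CTab Cfsg.Agent.Characters.Core Cfsg.Agent.Characters.Brauer
open Cfsg.Agent.H604.OZ (cent)
open scoped ComplexConjugate

/-! ### the graph -/

/-- adjacency -/
def ad (i j : Fin 100) : Prop := bitM 100 Cfsg.Agent.SporadicA.J2Data.adj i j = 1

instance : DecidableRel ad := fun i j =>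
  inferInstanceAs (Decidable (bitM 100 Cfsg.Agent.SporadicA.J2Data.adj i j = 1))

theorem ad_iff {g : Perm (Fin 100)} (hg : g ∈ G) (i j : Fin 100) : ad (g i) (g j) ↔ ad i j := by
  unfold ad
  rw [mem_autG.1 (aut_le hg) i j]

theorem card_ad (g : Perm (Fin 100)) (p : Fin 100 → Prop) [DecidablePred p]
    (q : Fin 100 → Prop) [DecidablePred q] (h : ∀ i, q (g i) ↔ p i) :
    (Finset.univ.filter p).card = (Finset.univ.filter q).card := by
  refine Finset.card_equiv g fun i => ?_
  simp only [Finset.mem_filter, Finset.mem_univ, true_and]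
  exact (h i).symm

def bB (i j : ℕ) : Bool := Nat.beq (bitM 100 Cfsg.Agent.SporadicA.J2Data.adj i j) 1

theorem bB_iff (i j : Fin 100) : bB i j = true ↔ ad i j := by
  unfold bB ad
  rw [Nat.beq_eq]

theorem k_chk : cntB (fun j => bB 0 j) 100 36 = true := by decide +kernel
theorem symm_chk : allB (fun j => bB 0 j == bB j 0) 100 = true := by decide +kernel
theorem irr_chk : bB 0 0 = false := by decide +kernel
theorem com_chk : allB (fun j => Nat.beq j 0 || bif bB 0 j then cntB (fun i => bB 0 i && bB i j) 100 14 else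
    cntB (fun i => bB 0 i && bB i j) 100 12) 100 = true := by decide +kernel

theorem exists_move (y : Fin 100) : ∃ g ∈ G, g 0 = y := trans y

theorem ad_zero_symm (j : Fin 100) : ad 0 j ↔ ad j 0 := by
  have h := (allB_iff _ _).1 symm_chk j j.2
  rw [beq_iff_eq] at h
  have h1 : bB ((0 : Fin 100) : ℕ) j = bB j ((0 : Fin 100) : ℕ) := h
  rw [← bB_iff, ← bB_iff, h1]

theorem ad_symm {x y : Fin 100} (h : ad x y) : ad y x := by
  obtain ⟨g, hg, rfl⟩ := exists_move x
  obtain ⟨z, rfl⟩ := g.surjective y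
  rw [ad_iff hg] at h ⊢
  exact (ad_zero_symm z).1 h

theorem ad_irr (x : Fin 100) : ¬ ad x x := by
  obtain ⟨g, hg, rfl⟩ := exists_move x
  rw [ad_iff hg, ← bB_iff]
  have h := irr_chk
  intro h1
  have h2 : bB 0 0 = true := h1
  rw [h] at h2
  exact absurd h2 (by decide)

theorem ad_card (x : Fin 100) : (Finset.univ.filter fun y => ad x y).card = 36 := by
  obtain ⟨g, hg, rfl⟩ := exists_move x
  rw [← card_ad g (fun y => ad 0 y) (fun y => ad (g 0) y) (fun i => ad_iff hg _ _),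
    ← card_fin_of_cntB _ _ _ k_chk]
  congr 1

theorem ad_com (x y : Fin 100) (hxy : x ≠ y) : (Finset.univ.filter fun z => ad x z ∧ ad z y).card =
    if ad x y then 14 else 12 := by
  obtain ⟨g, hg, rfl⟩ := exists_move x
  obtain ⟨y, rfl⟩ := g.surjective y
  rw [← card_ad g (fun z => ad 0 z ∧ ad z y) (fun z => ad (g 0) z ∧ ad z (g y))
    (fun i => by rw [ad_iff hg, ad_iff hg])]
  have hy : (y : ℕ) ≠ 0 := by
    intro h
    exact hxy (congrArg g (Fin.ext h.symm))
  have h := (allB_iff _ _).1 com_chk y y.2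
  have hy' : Nat.beq (y : ℕ) 0 = false := by
    cases h0 : Nat.beq (y : ℕ) 0
    · rfl
    · exact absurd (Nat.eq_of_beq_eq_true h0) hy
  rw [hy', Bool.false_or] at h
  have e1 : (Finset.univ.filter fun z : Fin 100 => ad 0 z ∧ ad z y) =
      Finset.univ.filter fun z : Fin 100 => (bB 0 z && bB z y) = true := by
    ext z
    simp only [Finset.mem_filter, Finset.mem_univ, true_and]
    rw [Bool.and_eq_true, bB_iff z y]
    exact and_congr_left fun _ => (bB_iff 0 z).symm
  have e2 : ad (g 0) (g y) ↔ bB 0 y = true := by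
    rw [ad_iff hg]
    exact (bB_iff 0 y).symm
  rw [e1]
  cases hb : bB 0 (y : ℕ)
  · rw [hb, cond_false] at h
    rw [if_neg (by rw [e2, hb]; decide)]
    exact card_fin_of_cntB _ _ _ h
  · rw [hb, cond_true] at h
    rw [if_pos (by rw [e2, hb])]
    exact card_fin_of_cntB _ _ _ h

/-! ### the character of degree 36 -/

instance actP : MulAction G (Fin 100) := MulAction.compHom (Fin 100) G.subtype

theorem smul_def (g : G) (x : Fin 100) : g • x = (g : Perm (Fin 100)) x := rfl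

/-- the character of degree 36 -/
noncomputable def phi (g : G) : ℂ := (((36 : ℕ) : ℂ) + ((-4 : ℤ) : ℂ) * ((Nat.card (MulAction.fixedBy (Fin 100) g) : ℂ) - 1) -
      ((Finset.univ.filter fun x : Fin 100 => ad x (g • x)).card : ℂ)) / (((-4 : ℤ) : ℂ) - ((6 : ℤ) : ℂ))

theorem phi_char : IsCharacter G phi :=
  isCharacter_srg (X := Fin 100) ad (fun g x y => ad_iff g.2 x y) (fun x y h => ad_symm h) ad_irr (k0 := 36)
    (lam := 14) (mu := 12) ad_card (fun x y h => by
      rw [ad_com x y (by rintro rfl; exact ad_irr _ h), if_pos h]) (fun x y h h' => by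
      rw [ad_com x y h, if_neg h']) (θ := -4) (τ := 6) (by norm_num) (by norm_num) (by norm_num)

/-- the values from the counts -/
theorem phi_eq {g : G} {f : ℕ → ℕ} (hf : ∀ x : Fin 100, (((g : Perm (Fin 100)) x : Fin 100) : ℕ) = f x) {a b : ℕ}
    (ha : cntB (fun x => Nat.beq (f x) x) 100 a = true) (hb : cntB (fun x => bB x (f x)) 100 b = true) {v : ℤ}
    (hv : (-10 : ℤ) * v = 36 - 4 * ((a : ℤ) - 1) - b) :
    phi g = v ∧ (Nat.card (MulAction.fixedBy (Fin 100) g) : ℂ) = a := by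
  have h1 : Nat.card (MulAction.fixedBy (Fin 100) g) = a := by
    rw [← card_fin_of_cntB _ _ _ ha, ← Fintype.card_subtype, ← Nat.card_eq_fintype_card]
    refine Nat.card_congr (Equiv.subtypeEquivRight fun x => ?_)
    rw [MulAction.mem_fixedBy, smul_def, ← hf]
    constructor
    · intro h
      rw [h]
      exact Nat.beq_refl _
    · intro h
      exact Fin.ext (Nat.eq_of_beq_eq_true h)
  have h2 : (Finset.univ.filter fun x : Fin 100 => ad x (g • x)).card = b := by
    rw [← card_fin_of_cntB _ _ _ hb]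
    congr 1
    ext x
    simp only [Finset.mem_filter, Finset.mem_univ, true_and]
    rw [smul_def, ← hf]
    exact (bB_iff _ _).symm
  refine ⟨?_, by rw [h1]⟩
  unfold phi
  rw [h1, h2]
  have h3 : (((-10 : ℤ) * v : ℤ) : ℂ) = ((36 - 4 * ((a : ℤ) - 1) - b : ℤ) : ℂ) := by rw [hv]
  push_cast at h3
  have h4 : (((-4 : ℤ) : ℂ) - ((6 : ℤ) : ℂ)) = -10 := by norm_num
  rw [h4, div_eq_iff (by norm_num)]
  push_cast
  linear_combination -h3

/-- the numbers of fixed points -/
def f1 : List ℕ := [100, 20, 0, 0, 4, 2, 10, 0, 0, 2, 0, 2, 0, 0, 8, 0, 0, 0, 2, 0, 0]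

def w36 : List ℤ := [36, 4, 0, -4, 0, 0, 9, -4, 0, 1, 0, 1, 0, -1, 4, -1, -1, -1, 1, 1, 1]

/-- the class of the square (up to algebraic conjugacy) -/
def sqc : List ℕ := [0, 0, 0, 3, 4, 14, 6, 3, 3, 6, 4, 9, 3, 13, 1, 19, 13, 19, 18, 19, 19]

/-- the number of vertices adjacent to their images -/
def nadj (a : ℕ) (v : ℤ) : ℕ := (36 - 4 * ((a : ℤ) - 1) + 10 * v).toNat

def chkV (f : ℕ → ℕ) (a b : ℕ) : Bool := cntB (fun x => Nat.beq (f x) x) 100 a && cntB (fun x => bB x (f x)) 100 b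

theorem chk1 : ∀ i : Fin 21, chkV (H1.J2Cls.rw 32 (R i)) (f1.getD i 0) (nadj (f1.getD i 0) (w36.getD i 0)) = true := by
  decide +kernel

theorem chk2 : ∀ i : Fin 21, chkV (fun x => H1.J2Cls.rw 32 (R i) (H1.J2Cls.rw 32 (R i) x)) (f1.getD (sqc.getD i 0) 0)
    (nadj (f1.getD (sqc.getD i 0) 0) (w36.getD (sqc.getD i 0) 0)) = true := by
  decide +kernel

theorem hv_chk : ∀ i : Fin 21, (-10 : ℤ) * w36.getD i 0 =
    36 - 4 * (((f1.getD i 0 : ℕ) : ℤ) - 1) - ((nadj (f1.getD i 0) (w36.getD i 0) : ℕ) : ℤ) := by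
  decide +kernel

theorem hv_chk2 : ∀ i : Fin 21, (-10 : ℤ) * w36.getD (sqc.getD i 0) 0 =
    36 - 4 * (((f1.getD (sqc.getD i 0) 0 : ℕ) : ℤ) - 1) -
      ((nadj (f1.getD (sqc.getD i 0) 0) (w36.getD (sqc.getD i 0) 0) : ℕ) : ℤ) := by
  decide +kernel

theorem rL_val (i : ℕ) (x : Fin 100) : (((gw (rL i) : Perm (Fin 100)) x : Fin 100) : ℕ) = H1.J2Cls.rw 32 (R i) x :=
  (rw_eq 32 (R i) x).symm

theorem phi_r (i : Fin 21) : phi (gw (rL i)) = ((w36.getD i 0 : ℤ) : ℂ) ∧
    (Nat.card (MulAction.fixedBy (Fin 100) (gw (rL i))) : ℂ) = ((f1.getD i 0 : ℕ) : ℂ) := by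
  have h := chk1 i
  unfold chkV at h
  rw [Bool.and_eq_true] at h
  exact phi_eq (rL_val i) h.1 h.2 (hv_chk i)

theorem phi_r2 (i : Fin 21) : phi (gw (rL i) ^ 2) = ((w36.getD (sqc.getD i 0) 0 : ℤ) : ℂ) := by
  have h := chk2 i
  unfold chkV at h
  rw [Bool.and_eq_true] at h
  refine (phi_eq (fun x => ?_) h.1 h.2 (hv_chk2 i)).1
  rw [pow_two, Subgroup.coe_mul, Perm.mul_apply, rL_val, rL_val]

/-! ### the action on the 315 central involutions -/

/-- the class -/
def X : Type := {d : G // d ∈ DS}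

noncomputable instance actX : MulAction G X where
  smul g d := ⟨g * d.1 * g⁻¹, conj_DS g d.2⟩
  one_smul d := Subtype.ext (by
    show 1 * d.1 * 1⁻¹ = d.1
    rw [one_mul, inv_one, mul_one])
  mul_smul g h d := Subtype.ext (by
    show g * h * d.1 * (g * h)⁻¹ = g * (h * d.1 * h⁻¹) * g⁻¹
    group)

theorem smulX (g : G) (d : X) : (g • d).1 = g * d.1 * g⁻¹ := rfl

def kq (q : ℕ) : ℕ := Nat.add (Nat.mul 128 (Nat.add (Nat.mul 128 (Nat.add (Nat.mul 128 (db q 0)) (db q 1))) (db q 2))) (db q 3)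

theorem inj_chk : allB (fun q => allB (fun q' => nbeq (kq q) (kq q')) q) 315 = true := by decide +kernel

theorem dL_inj {q q' : ℕ} (hq : q < 315) (hq' : q' < 315) (h : gw (dL q) = gw (dL q')) : q = q' := by
  have key : ∀ i < 4, db q i = db q' i := by
    intro i hi
    rw [db_eq hq hi, db_eq hq' hi]
    have h1 : pw (dL q) = pw (dL q') := congrArg Subtype.val h
    rw [← pw_val (dL q) ⟨bs i, bs_lt i hi⟩, h1, pw_val (dL q')]
  have hk : kq q = kq q' := by
    unfold kq
    rw [key 0 (by norm_num), key 1 (by norm_num), key 2 (by norm_num), key 3 (by norm_num)]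
  by_contra hne
  rcases Nat.lt_or_gt_of_ne hne with h1 | h1
  · exact (nbeq_iff _ _).1 ((allB_iff _ _).1 ((allB_iff _ _).1 inj_chk q' hq') q h1) hk.symm
  · exact (nbeq_iff _ _).1 ((allB_iff _ _).1 ((allB_iff _ _).1 inj_chk q hq) q' h1) hk

noncomputable def eX : Fin 315 ≃ X := Equiv.ofBijective (fun q => ⟨gw (dL q), ⟨q, q.2, rfl⟩⟩) ⟨fun q q' h =>
    Fin.ext (dL_inj q.2 q'.2 (congrArg Subtype.val h)), fun d => by
  obtain ⟨d, q, hq, rfl⟩ := d
  exact ⟨⟨q, hq⟩, rfl⟩⟩

instance finX : Finite X := Finite.of_equiv _ eX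

/-- `r` and the involution `q` commute -/
def comB (r q : ℕ) : Bool := allB (fun k => Nat.beq (H1.J2Cls.rw 32 r (db q k)) (H1.J2Cls.rw 32 (D q) (H1.J2Cls.rw 32 r (bs k)))) 4

theorem comB_iff {r q : ℕ} (hq : q < 315) : comB r q = true ↔ gw (dec 32 r) * gw (dL q) = gw (dL q) * gw (dec 32 r) := by
  have hv : ∀ k < 4, H1.J2Cls.rw 32 r (db q k) = H1.J2Cls.rw 32 r (H1.J2Cls.rw 32 (D q) (bs k)) := by
    intro k hk
    rw [db_eq hq hk, dL, run_dec' _ _ (bs_lt k hk)]
  constructor
  · intro h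
    have h1 := gw_eq_of_base (w := r) (r := D q) (fun k hk => by
      rw [← hv k hk]
      exact Nat.eq_of_beq_eq_true ((allB_iff _ _).1 h k hk))
    exact h1
  · intro h
    unfold comB
    rw [allB_iff]
    intro k hk
    rw [Nat.beq_eq, hv k hk]
    have hbi := bs_lt k hk
    have h6 : H1.J2Cls.rw 32 r (bs k) < 100 := by rw [← run_dec' _ _ hbi]; exact run_lt hbi
    have h7 : H1.J2Cls.rw 32 (D q) (bs k) < 100 := by rw [← run_dec' _ _ hbi]; exact run_lt hbi
    have h8 : pw (dec 32 r ++ dL q) = pw (dL q ++ dec 32 r) := by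
      rw [← gw_append, ← gw_append] at h
      exact congrArg Subtype.val h
    have h9 := pw_val (dec 32 r ++ dL q) ⟨bs k, hbi⟩
    rw [h8, pw_val, run_append, run_append] at h9
    show H1.J2Cls.rw 32 r (H1.J2Cls.rw 32 (D q) (bs k)) = _
    rw [← run_dec' _ _ h7, ← run_dec' _ _ hbi, ← run_dec' _ _ h6, ← run_dec' _ _ hbi]
    exact h9.symm

/-- the values of the permutation character on the involutions -/
def f315 : List ℕ := [315, 11, 15, 0, 0, 1, 45, 0, 0, 5, 0, 1, 0, 0, 7, 1, 0, 1, 0, 5, 5]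

theorem chk315 : ∀ i : Fin 21, cntB (fun q => comB (R i) q) 315 (f315.getD i 0) = true := by decide +kernel

theorem fix315 (i : Fin 21) : Nat.card (MulAction.fixedBy X (gw (rL i))) = f315.getD i 0 := by
  rw [← card_fin_of_cntB _ _ _ (chk315 i), ← Fintype.card_subtype, ← Nat.card_eq_fintype_card]
  refine (Nat.card_congr (Equiv.subtypeEquiv eX fun q => ?_)).symm
  rw [comB_iff q.2, MulAction.mem_fixedBy]
  constructor
  · intro h
    refine Subtype.ext ?_
    rw [smulX]
    exact mul_inv_eq_iff_eq_mul.2 h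
  · intro h
    have h1 := congrArg Subtype.val h
    rw [smulX] at h1
    exact mul_inv_eq_iff_eq_mul.1 h1

/-! ### the character of degree 288 -/

/-- the class list -/
noncomputable def T : ClassTab G 21 where
  x i := gw (rL i)
  c i := cv i
  cover g := by
    obtain ⟨i, h, -⟩ := type g
    exact ⟨i, h⟩
  inj i j h := classes.2 i j h
  card i := classes.1 i

def l288 : List ℤ := [288, 0, 4, 3, -3, 0, 0, 3, -1, 0, 1, 0, -1, 0, 0, 0, 0, 0, 1, -2, -2]

/-- the character of degree 288 -/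
noncomputable def psi : G → ℂ := phi * phi - (fun g => (phi g * phi g - phi (g ^ 2)) / 2) -
  (fun g => (Nat.card (MulAction.fixedBy X g) : ℂ)) -
  ((fun g => (Nat.card (MulAction.fixedBy (Fin 100) g) : ℂ)) - 1 - phi)

theorem psi_gen : IsGeneralizedCharacter G psi := by
  have h1 := isGeneralizedCharacter_of_isCharacter phi_char
  have h2 := isGeneralizedCharacter_of_isCharacter (ext_two phi_char)
  have h3 := isGeneralizedCharacter_of_isCharacter (S0157.isCharacter_fixedBy (G := G) X)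
  have h4 := isGeneralizedCharacter_of_isCharacter (S0157.isCharacter_fixedBy (G := G) (Fin 100))
  have h5 := isGeneralizedCharacter_of_isCharacter (isCharacter_one (G := G))
  exact isGeneralizedCharacter_sub (isGeneralizedCharacter_sub (isGeneralizedCharacter_sub
    (isGeneralizedCharacter_mul h1 h1) h2) h3) (isGeneralizedCharacter_sub (isGeneralizedCharacter_sub h4 h5) h1)

theorem l288_chk : ∀ i : Fin 21, 2 * l288.getD i 0 = w36.getD i 0 * w36.getD i 0 + w36.getD (sqc.getD i 0) 0 -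
    2 * ((f315.getD i 0 : ℕ) : ℤ) - 2 * (((f1.getD i 0 : ℕ) : ℤ) - 1 - w36.getD i 0) := by decide +kernel

theorem psi_r (i : Fin 21) : psi (gw (rL i)) = ((l288.getD i 0 : ℤ) : ℂ) := by
  have h1 := phi_r i
  have h2 := phi_r2 i
  have h3 := fix315 i
  have h4 : ((2 * l288.getD i 0 : ℤ) : ℂ) = ((w36.getD i 0 * w36.getD i 0 + w36.getD (sqc.getD i 0) 0 -
    2 * ((f315.getD i 0 : ℕ) : ℤ) - 2 * (((f1.getD i 0 : ℕ) : ℤ) - 1 - w36.getD i 0) : ℤ) : ℂ) := by rw [l288_chk]
  push_cast at h4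
  show phi (gw (rL i)) * phi (gw (rL i)) - (phi (gw (rL i)) * phi (gw (rL i)) - phi (gw (rL i) ^ 2)) / 2 -
    (Nat.card (MulAction.fixedBy X (gw (rL i))) : ℂ) -
    ((Nat.card (MulAction.fixedBy (Fin 100) (gw (rL i))) : ℂ) - 1 - phi (gw (rL i))) = _
  rw [h1.1, h1.2, h2, h3]
  linear_combination (-1 / 2 : ℂ) * h4

theorem norm_chk : ∑ i : Fin 21, ((604800 / cv i : ℕ) : ℤ) * (l288.getD i 0 * l288.getD i 0) = 604800 := by
  decide +kernel

theorem inner_psi [Fintype G] : classInner psi psi = 1 := by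
  classical
  have hc := gen_classFunction psi_gen
  have h1 := T.inner_eq hc hc
  have h2 : ∑ i, ((Nat.card G / T.c i : ℕ) : ℂ) * (psi (T.x i) * conj (psi (T.x i))) = 604800 := by
    have h3 : ∀ i : Fin 21, ((Nat.card G / T.c i : ℕ) : ℂ) * (psi (T.x i) * conj (psi (T.x i))) =
        ((((604800 / cv i : ℕ) : ℤ) * (l288.getD i 0 * l288.getD i 0) : ℤ) : ℂ) := by
      intro i
      have h4 : psi (T.x i) = ((l288.getD i 0 : ℤ) : ℂ) := psi_r i
      rw [h4, map_intCast, card_G]
      push_cast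
      rfl
    rw [Finset.sum_congr rfl fun i _ => h3 i, ← Int.cast_sum, norm_chk]
    norm_num
  rw [h2, card_G] at h1
  have h3 : ((604800 : ℕ) : ℂ) ≠ 0 := by norm_num
  refine mul_left_cancel₀ h3 ?_
  rw [h1]
  norm_num

/-- **The character degree 288 of `J₂`.** -/
theorem deg_288 : 288 ∈ charDegrees G := by
  classical
  have := Fintype.ofFinite G
  have hfi : Finite (IrrCharacter G) := Cfsg.Agent.Characters.Core.finite_irr
  have := Fintype.ofFinite (IrrCharacter G)
  have h1 := inner_sum_mu psi_gen psi_gen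
  rw [inner_psi] at h1
  obtain ⟨χ, h2, h3⟩ := one_of_sum_sq (m := mu psi_gen) (by exact_mod_cast h1.symm)
  have h4 : ∀ g, psi g = (mu psi_gen χ : ℂ) * (χ : G → ℂ) g := by
    intro g
    rw [apply_mu psi_gen g]
    exact Finset.sum_eq_single χ (fun χ' _ h => by rw [h3 χ' h, Int.cast_zero, zero_mul])
      fun h => absurd (Finset.mem_univ χ) h
  have h5 := h4 1
  have h6 : psi 1 = ((288 : ℤ) : ℂ) := by
    have h7 := psi_r 0
    change psi (gw (rL 0)) = _ at h7
    rw [rL_zero] at h7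
    exact h7
  obtain ⟨d, hd, hd'⟩ := isIrr_apply_one χ.2
  rw [h6, hd'] at h5
  have h8 : (288 : ℤ) = mu psi_gen χ * (d : ℤ) := by exact_mod_cast h5
  have h9 : (d : ℤ) = 288 := by
    rcases h2 with h | h <;> rw [h] at h8 <;> omega
  refine ⟨χ, ?_⟩
  have h10 : (χ : G → ℂ) 1 = ((288 : ℕ) : ℂ) := by
    rw [hd']
    exact_mod_cast h9
  have h11 := H686.CharKit.charDegree_irr χ
  rw [h10] at h11
  exact_mod_cast h11

end Cfsg.Agent.H89.S8.J2
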