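import Cfsg.Agent.H89.S8.J2Chr
import Cfsg.Agent.H409.S8.JTwoDeg

/-!
# The degrees of `J₂` not divisible by 7 (helper89, S4908)

The column of the elements of order 7 (helper409) has the six known entries `1, 36, 90, 160, 225, 288`; the seventh one
is 300.
-/

set_option autoImplicit false
set_option maxRecDepth 100000

namespace Cfsg.Agent.H89.S8.J2

open Cfsg Cfsg.Agent.SporadicA.J2Hundred Cfsg.Agent.J2.HundredGens Cfsg.Agent.Characters.Core
open Cfsg.Agent.H409.S8.JTwo (col five sixth dvd_card)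

/-- the six characters -/
theorem six : ∃ t : Fin 6 → IrrCharacter G, ∀ i, charDegree (t i : G → ℂ) = (![1, 36, 90, 160, 225, 288] : Fin 6 → ℕ) i := by
  obtain ⟨t, ht⟩ := five
  obtain ⟨f, hf⟩ := deg_288
  refine ⟨![t 0, t 1, t 2, t 3, t 4, f], fun i => ?_⟩
  fin_cases i
  exacts [ht 0, ht 1, ht 2, ht 3, ht 4, hf]

/-- **The degrees not divisible by 7.** -/
theorem seven : (∃ ω : IrrCharacter G, charDegree (ω : G → ℂ) = 300) ∧ ∀ χ : IrrCharacter G,
    7 ∣ charDegree (χ : G → ℂ) ∨ charDegree (χ : G → ℂ) ∈ [1, 36, 90, 160, 225, 288, 300] := by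
  classical
  have := Characters.Core.finite_irr (G := G)
  have := Fintype.ofFinite (IrrCharacter G)
  obtain ⟨c, h7, hs, h0⟩ := col
  obtain ⟨t, ht⟩ := six
  have hinj : Function.Injective t := by
    intro i j hij
    have h1 := ht i
    rw [hij, ht j] at h1
    revert h1
    fin_cases i <;> fin_cases j <;> simp
  have hc : ∀ i, c (t i) = (![1, 1, -1, -1, 1, 1] : Fin 6 → ℤ) i := by
    intro i
    have h1 := h7 (t i)
    have h2 := sixth h7 hs (t i)
    rw [ht i] at h1
    fin_cases i <;> simp at h1 h2 ⊢ <;> omega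
  set s := Finset.univ.image t with hsdef
  have e1 : ∑ ψ ∈ s, c ψ * c ψ = 6 := by
    rw [hsdef, Finset.sum_image fun i _ j _ h => hinj h]
    simp only [hc]
    simp [Fin.sum_univ_succ]
  have e2 : ∑ ψ ∈ s, (charDegree (ψ : G → ℂ) : ℤ) * c ψ = 300 := by
    rw [hsdef, Finset.sum_image fun i _ j _ h => hinj h]
    simp only [hc, ht]
    simp [Fin.sum_univ_succ]
  have f1 : ∑ ψ ∈ sᶜ, c ψ * c ψ = 1 := by
    have := Finset.sum_add_sum_compl s (fun ψ => c ψ * c ψ)
    rw [e1, hs] at this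
    linarith
  have f2 : ∑ ψ ∈ sᶜ, (charDegree (ψ : G → ℂ) : ℤ) * c ψ = -300 := by
    have := Finset.sum_add_sum_compl s (fun ψ : IrrCharacter G => (charDegree (ψ : G → ℂ) : ℤ) * c ψ)
    rw [e2, h0] at this
    linarith
  obtain ⟨ω, hω, hω0⟩ := Finset.exists_ne_zero_of_sum_ne_zero (by rw [f1]; norm_num : ∑ ψ ∈ sᶜ, c ψ * c ψ ≠ 0)
  have hω1 : c ω ≠ 0 := fun h => hω0 (by rw [h]; rfl)
  have hoth : ∀ ψ ∈ sᶜ, ψ ≠ ω → c ψ = 0 := by
    intro ψ hψ hne
    by_contra h1
    have h2 : c ω * c ω + c ψ * c ψ ≤ 1 := by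
      rw [← f1, ← Finset.sum_pair hne.symm (f := fun ψ => c ψ * c ψ)]
      refine Finset.sum_le_sum_of_subset_of_nonneg ?_ fun ψ _ _ => mul_self_nonneg _
      intro a ha
      rcases Finset.mem_insert.1 ha with rfl | ha
      · exact hω
      · rw [Finset.mem_singleton.1 ha]; exact hψ
    have h3 := mul_self_pos.2 h1
    have h4 := mul_self_pos.2 hω1
    linarith
  have g2 : (charDegree (ω : G → ℂ) : ℤ) * c ω = -300 := by
    rw [← f2]
    symm
    apply Finset.sum_eq_single_of_mem ω hω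
    intro ψ hψ hne
    rw [hoth ψ hψ hne, mul_zero]
  have h300 : charDegree (ω : G → ℂ) = 300 := by
    rcases sixth h7 hs ω with h2 | h2 | h2
    · exact absurd h2 hω1
    · rw [h2] at g2; omega
    · rw [h2] at g2; omega
  refine ⟨⟨ω, h300⟩, fun χ => ?_⟩
  by_cases hχ0 : c χ = 0
  · left
    have h1 := h7 χ
    rw [hχ0, sub_zero] at h1
    exact_mod_cast h1
  right
  by_cases hχs : χ ∈ s
  · obtain ⟨i, -, rfl⟩ := Finset.mem_image.1 hχs
    rw [ht i]
    fin_cases i <;> simp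
  · have hχω : χ = ω := by
      by_contra hne
      exact hχ0 (hoth χ (Finset.mem_compl.2 hχs) hne)
    rw [hχω, h300]
    simp

theorem deg_300 : 300 ∈ charDegrees G := seven.1

/-- the multiples of 7 -/
def sevens : List ℕ := [7, 14, 21, 28, 35, 42, 56, 63, 70, 84, 105, 112, 126, 140, 168, 175, 189, 210, 224, 252, 280, 315,
  336, 350, 378, 420, 448, 504, 525, 560, 630, 672, 700, 756]

theorem sevens_chk : ∀ k ∈ Finset.range 112, k ≠ 0 → 604800 % (7 * k) = 0 → 7 * k ∈ sevens := by decide +kernel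

/-- **The degrees of `J₂`.** -/
theorem mem_adm {d : ℕ} (hd : d ∈ charDegrees G) : d ∈ [1, 36, 90, 160, 225, 288, 300] ++ sevens := by
  obtain ⟨χ, rfl⟩ := hd
  rw [List.mem_append]
  rcases seven.2 χ with h | h
  · right
    obtain ⟨k, hk⟩ := h
    have h1 := dvd_card χ
    have h2 : 0 < charDegree (χ : G → ℂ) := Cfsg.Agent.Blocks.Basic.charDegree_pos χ.2
    have h3 : charDegree (χ : G → ℂ) * charDegree (χ : G → ℂ) ≤ 604800 := by
      have h4 := H424.DegTools.sq_le (G := G) (d := charDegree (χ : G → ℂ)) ⟨χ, rfl⟩ ⊥ bot_le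
      rw [Subgroup.index_bot, card_G] at h4
      nlinarith
    rw [hk] at h1 h2 h3 ⊢
    refine sevens_chk k (Finset.mem_range.2 ?_) (by rintro rfl; omega) (Nat.mod_eq_zero_of_dvd h1)
    by_contra hcon
    have : 112 ≤ k := by omega
    nlinarith
  · exact Or.inl h

end Cfsg.Agent.H89.S8.J2
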