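import Cfsg.Agent.H704.S8.Defs
import Cfsg.Agent.H34.PerfThree
import Cfsg.Agent.H691.AN.Frame

/-!
# S4908, piece SOLV: the engine (helper89, after H245/AN/Core.lean)

`solv_of` : no solvable group has the degree set `D`, from a finite superset `1 :: LD` of `D`, a list `W` of elements of
`D` and a kernel check: for each `f ∈ LD` (the index of a Frobenius section `p ^ m : f`, or a power of `p`) some `d ∈ W` has
no `e ∈ LD` with `lcm f d ∣ e ∣ f d` and is not divisible by `p` (`p ^ m ∤ d ^ 2` for all `m` with `f < p ^ m`).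
-/

set_option autoImplicit false

namespace Cfsg.Agent.H89.S8

open Cfsg Cfsg.Agent.H704.S8 Cfsg.Agent.H681 Cfsg.Agent.H681.DegBasic

universe u

/-- membership in a list of numbers -/
def memB (x : ℕ) : List ℕ → Bool
  | [] => false
  | a :: l => Nat.beq x a || memB x l

theorem memB_iff {x : ℕ} {l : List ℕ} : memB x l = true ↔ x ∈ l := by
  induction l with
  | nil => simp [memB]
  | cons a l ih => rw [memB, Bool.or_eq_true, ih, List.mem_cons, Nat.beq_eq]

/-- no `f * (d / t)`, `t ∣ gcd d f`, is in the list -/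
def badB (LD : List ℕ) (d f : ℕ) : Bool :=
  LD.all fun e => !(Nat.beq (Nat.mod (f * d) e) 0) || !(Nat.beq (Nat.mod (Nat.gcd d f) (Nat.div (f * d) e)) 0)

theorem bad_of {LD : List ℕ} {d f : ℕ} (h : badB LD d f = true) (hf : 0 < f) {e : ℕ} (he : e ∣ d)
    (hef : d / e ∣ f) : f * e ∉ LD := by
  intro hm
  have h1 := (List.all_eq_true.1 h) _ hm
  rw [Bool.or_eq_true, Bool.not_eq_true', Bool.not_eq_true', ← Bool.not_eq_true, ← Bool.not_eq_true, Nat.beq_eq,
    Nat.beq_eq] at h1
  have h2 : Nat.mod (f * d) (f * e) = 0 := Nat.mod_eq_zero_of_dvd (Nat.mul_dvd_mul_left f he)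
  have h3 : Nat.div (f * d) (f * e) = d / e := Nat.mul_div_mul_left d e hf
  have h4 : Nat.mod (Nat.gcd d f) (d / e) = 0 :=
    Nat.mod_eq_zero_of_dvd (Nat.dvd_gcd (Nat.div_dvd_of_dvd he) hef)
  rw [h3] at h1
  rcases h1 with h1 | h1
  · exact h1 h2
  · exact h1 h4

/-- `q * p ^ k ∤ dd` for the least `k` with `f < q * p ^ k` -/
def npB (f dd p : ℕ) : ℕ → ℕ → Bool
  | 0, _ => false
  | k + 1, q => if Nat.ble q f then npB f dd p k (q * p) else !(Nat.beq (Nat.mod dd q) 0)

theorem np_of {f dd p : ℕ} : ∀ (k q : ℕ), npB f dd p k q = true → ∀ m : ℕ, f < q * p ^ m → ¬ q * p ^ m ∣ dd := by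
  intro k
  induction k with
  | zero => intro q h; simp [npB] at h
  | succ k ih =>
    intro q h m hm hd
    rw [npB] at h
    by_cases hq : Nat.ble q f = true
    · rw [if_pos hq] at h
      have hq' : q ≤ f := Nat.le_of_ble_eq_true hq
      cases m with
      | zero => rw [pow_zero, mul_one] at hm; omega
      | succ m =>
        have e : q * p ^ (m + 1) = q * p * p ^ m := by ring
        rw [e] at hm hd
        exact ih _ h m hm hd
    · rw [if_neg hq, Bool.not_eq_true', ← Bool.not_eq_true, Nat.beq_eq] at h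
      exact h (Nat.mod_eq_zero_of_dvd ((Dvd.intro _ rfl).trans hd))

/-- the check of `f` against the witnesses `A` -/
def one (K : ℕ) (LD P W : List ℕ) (f : ℕ) : Bool :=
  (fun A : List ℕ => Nat.blt 1 f && Nat.blt f (2 ^ K) && !A.isEmpty &&
    P.all (fun p => (Nat.beq (Nat.mod f p) 0 || A.any (fun d => npB f (d * d) p (K + 1) 1)) &&
      (!(Nat.beq (Nat.mod (p ^ K) f) 0) || A.any (fun d => !(Nat.beq (Nat.mod d p) 0)))))
    (W.filter fun d => badB (1 :: LD) d f)

/-- the check -/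
def chk (K : ℕ) (LD P W : List ℕ) : Bool := LD.all fun f => one K LD P W f

/-- **the derived subgroup is perfect** -/
theorem perf_of {G : Type u} [Group G] [Finite G] (K : ℕ) {LD P W : List ℕ} (hchk : chk K LD P W = true)
    (hLD : ∀ d ∈ charDegrees G, d ∈ 1 :: LD) (hW : ∀ w ∈ W, w ∈ charDegrees G)
    (hP : ∀ p : ℕ, p.Prime → (∃ x ∈ charDegrees G, p ∣ x) → p ∈ P) :
    ⁅commutator G, commutator G⁆ = commutator G := by
  classical
  have := Fintype.ofFinite G
  by_contra hcon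
  obtain ⟨p, f, hp, hf1, hc⟩ := H34.Perf3.cases_of_not_perfect hcon
  -- the certificate for `f`
  have hcert : f ∈ charDegrees G → ∃ A : List ℕ, (∃ d, d ∈ A) ∧ f < 2 ^ K ∧
      (∀ d ∈ A, d ∈ charDegrees G ∧ badB (1 :: LD) d f = true) ∧
      (p ∈ P → (¬ p ∣ f → ∃ d ∈ A, ∀ m : ℕ, f < p ^ m → ¬ p ^ m ∣ d * d) ∧
        (f ∣ p ^ K → ∃ d ∈ A, ¬ p ∣ d)) := by
    intro hf
    have h1 := hLD f hf
    rw [List.mem_cons] at h1
    rcases h1 with h1 | h1
    · omega
    have h2 := (List.all_eq_true.1 hchk) f h1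
    simp only [one, Bool.and_eq_true] at h2
    obtain ⟨⟨⟨-, h3⟩, h4⟩, h6⟩ := h2
    refine ⟨W.filter fun d => badB (1 :: LD) d f, ?_, ?_, ?_, ?_⟩
    · rcases hA : (W.filter fun d => badB (1 :: LD) d f) with _ | ⟨a, l⟩
      · rw [hA] at h4
        simp at h4
      · exact ⟨a, by simp⟩
    · have := Nat.le_of_ble_eq_true (show Nat.ble (f + 1) (2 ^ K) = true from h3)
      omega
    · intro d hd
      rw [List.mem_filter] at hd
      exact ⟨hW d hd.1, hd.2⟩
    · intro hpn
      have h7 := (List.all_eq_true.1 h6) p hpn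
      rw [Bool.and_eq_true, Bool.or_eq_true, Bool.or_eq_true] at h7
      obtain ⟨h8, h9⟩ := h7
      constructor
      · intro hpf
        rcases h8 with h8 | h8
        · rw [Nat.beq_eq] at h8
          exact absurd (Nat.dvd_of_mod_eq_zero h8) hpf
        · obtain ⟨d, hd, h10⟩ := List.any_eq_true.1 h8
          refine ⟨d, hd, fun m hm => ?_⟩
          have h11 := np_of _ _ h10 m (by rwa [one_mul])
          rwa [one_mul] at h11
      · intro hfp
        rcases h9 with h9 | h9
        · rw [Bool.not_eq_true', ← Bool.not_eq_true, Nat.beq_eq] at h9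
          exact absurd (Nat.mod_eq_zero_of_dvd hfp) h9
        · obtain ⟨d, hd, h10⟩ := List.any_eq_true.1 h9
          rw [Bool.not_eq_true', ← Bool.not_eq_true, Nat.beq_eq] at h10
          exact ⟨d, hd, fun h11 => h10 (Nat.mod_eq_zero_of_dvd h11)⟩
  rcases hc with ⟨⟨b, hb⟩, hc⟩ | ⟨hfp, N, hN, hNf, m, hm, hfm, hc⟩
  · -- the `p`-group case
    have hfD : f ∈ charDegrees G := by
      rcases hc 1 one_mem with h1 | h1
      · exact absurd (Nat.dvd_one.1 h1) hp.one_lt.ne'
      · rwa [mul_one] at h1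
    obtain ⟨A, -, hA2, hA3, hA4⟩ := hcert hfD
    have hb0 : b ≠ 0 := by
      rintro rfl
      rw [pow_zero] at hb
      omega
    have hpf : p ∣ f := by rw [hb]; exact dvd_pow_self p hb0
    have hbK : b ≤ K := by
      by_contra hlt
      have h1 : 2 ^ K ≤ p ^ b := (Nat.pow_le_pow_left hp.two_le K).trans (Nat.pow_le_pow_right hp.pos (by omega))
      omega
    obtain ⟨d, hd, hpd⟩ := (hA4 (hP p hp ⟨f, hfD, hpf⟩)).2 (by rw [hb]; exact pow_dvd_pow p hbK)
    obtain ⟨hdD, hbad⟩ := hA3 d hd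
    rcases hc d hdD with h1 | h1
    · exact hpd h1
    · have hd0 := pos_of_mem hdD
      exact bad_of hbad (by omega) dvd_rfl (by rw [Nat.div_self hd0]; exact one_dvd _) (hLD _ h1)
  · -- the Frobenius case
    have := Fintype.ofFinite N
    have hcN : ∀ e ∈ charDegrees N, p ^ m ∣ e ^ 2 ∨ f * e ∈ charDegrees G := by
      intro e he
      obtain ⟨ψ, hψ, hψe⟩ := mem_charDegrees.1 he
      exact hc ψ hψ e hψe
    have hfD : f ∈ charDegrees G := by
      rcases hcN 1 one_mem with h1 | h1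
      · rw [one_pow] at h1
        have := Nat.le_of_dvd one_pos h1
        omega
      · rwa [mul_one] at h1
    obtain ⟨A, hA1, -, hA3, hA4⟩ := hcert hfD
    -- each witness is divisible
    have key : ∀ d ∈ A, p ^ m ∣ d * d := by
      intro d hd
      obtain ⟨hdD, hbad⟩ := hA3 d hd
      obtain ⟨χ, hχ, hχd⟩ := mem_charDegrees.1 hdD
      obtain ⟨ψ, e, hψ, hψe, -, he1, he2⟩ := exists_constituent N hχ hχd
      rw [hNf] at he2
      have heN : e ∈ charDegrees N := mem_charDegrees.2 ⟨ψ, hψ, hψe⟩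
      rcases hcN e heN with h1 | h1
      · rw [← sq]
        exact h1.trans (pow_dvd_pow_of_dvd he1 2)
      · exact absurd (hLD _ h1) (bad_of hbad (by omega) he1 he2)
    have hpf : ¬ p ∣ f := fun h1 => by
      have h2 := (Nat.Prime.coprime_iff_not_dvd hp).1 hfp.symm
      exact h2 h1
    obtain ⟨d0, hd0⟩ := hA1
    have hpd : p ∣ d0 := by
      have h1 := (dvd_pow_self p hm.ne').trans (key d0 hd0)
      rcases (Nat.Prime.dvd_mul hp).1 h1 with h2 | h2 <;> exact h2
    obtain ⟨d, hd, h1⟩ := (hA4 (hP p hp ⟨d0, (hA3 d0 hd0).1, hpd⟩)).1 hpf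
    exact h1 m hfm (key d hd)

/-- **no solvable group has the degree set `D`** -/
theorem solv_of {D : Set ℕ} (K : ℕ) {LD P W : List ℕ} (hchk : chk K LD P W = true)
    (hLD : ∀ d ∈ D, d ∈ 1 :: LD) (hW : ∀ w ∈ W, w ∈ D) (hP : ∀ p : ℕ, p.Prime → (∃ x ∈ D, p ∣ x) → p ∈ P)
    (h1 : ∃ d ∈ D, d ≠ 1) : Solv.{u} D := by
  intro G _ _ hs h
  subst h
  have hperf := perf_of K hchk hLD hW hP
  have hsol : Group.IsSolvable (commutator G) := inferInstance
  have hbot : commutator G = ⊥ := Cfsg.Agent.H691.AN.eq_bot_of_perfect hperf hsol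
  obtain ⟨d, hd, hd1⟩ := h1
  apply hd1
  have hcomm : ∀ a b : G, a * b = b * a := by
    rw [commutator_eq_bot_iff_center_eq_top, Subgroup.eq_top_iff'] at hbot
    intro a b
    exact (Subgroup.mem_center_iff.1 (hbot b) a)
  obtain ⟨χ, hχ, hχd⟩ := mem_charDegrees.1 hd
  have h2 := Cfsg.Agent.S0187.result.1 hcomm ⟨χ, hχ⟩
  have h3 : (d : ℂ) = 1 := by rw [← hχd]; exact h2
  exact_mod_cast h3

end Cfsg.Agent.H89.S8
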